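import Mathlib

/-!
# The cyclotomic polynomial of a prime `q ≡ 3 (mod 4)` as `U² + q V²`
-/

set_option autoImplicit false
set_option linter.style.haveILetI false

open Polynomial

namespace CfsgLib.DivRing

noncomputable section

/-- For a prime `q ≡ 3 (mod 4)` the cyclotomic polynomial is `U² + q V²` over the rationals. -/
theorem gauss_form {q : ℕ} [hq : Fact q.Prime] (h3 : q % 4 = 3) :
    ∃ U V : ℚ[X], U ^ 2 + C (q : ℚ) * V ^ 2 = cyclotomic q ℚ := by
  classical
  let L := CyclotomicField q ℚ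
  haveI : NeZero q := ⟨hq.out.ne_zero⟩
  haveI : IsCyclotomicExtension {q} ℚ L := CyclotomicField.isCyclotomicExtension q ℚ
  haveI : IsGalois ℚ L := IsCyclotomicExtension.isGalois {q} ℚ L
  haveI : FiniteDimensional ℚ L := IsCyclotomicExtension.finiteDimensional {q} ℚ L
  set ζ : L := IsCyclotomicExtension.zeta q ℚ L with hζd
  have hζ : IsPrimitiveRoot ζ q := IsCyclotomicExtension.zeta_spec q ℚ L
  set ψ : AddChar (ZMod q) L := AddChar.zmodChar q hζ.pow_eq_one with hψd
  have hψ : ψ.IsPrimitive := AddChar.zmodChar_primitive_of_primitive_root q hζ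
  have hq2 : ringChar (ZMod q) ≠ 2 := by rw [ZMod.ringChar_zmod_n]; omega
  set χ0 := quadraticChar (ZMod q) with hχ0
  set χ : MulChar (ZMod q) L := χ0.ringHomComp (Int.castRingHom L) with hχd
  have hχq : χ.IsQuadratic := (quadraticChar_isQuadratic (ZMod q)).comp _
  have hχ1 : χ ≠ 1 := by
    intro h
    obtain ⟨a, ha⟩ := quadraticChar_exists_neg_one hq2
    have ha0 : a ≠ 0 := fun h0 => by rw [h0, quadraticChar_zero] at ha; norm_num at ha
    have h1 := congrArg (fun c : MulChar (ZMod q) L => c a) h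
    rw [show χ a = ((χ0 a : ℤ) : L) from rfl, ha, MulChar.one_apply (Ne.isUnit ha0)] at h1
    norm_num at h1
  set τ := gaussSum χ ψ with hτd
  have hτ2 : τ ^ 2 = -(q : L) := by
    rw [hτd, gaussSum_sq hχ1 hχq hψ, show χ (-1) = ((χ0 (-1) : ℤ) : L) from rfl,
      quadraticChar_neg_one hq2, ZMod.card, ZMod.χ₄_nat_three_mod_four h3]
    push_cast
    exact neg_one_mul _
  have hτ0 : τ ≠ 0 := by
    intro h
    rw [h, zero_pow two_ne_zero, eq_comm, neg_eq_zero] at hτ2
    exact hq.out.ne_zero (by exact_mod_cast hτ2)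
  -- the two halves of the roots
  let P : ℤ → Finset (ZMod q) := fun e => Finset.univ.filter fun x => χ0 x = e
  let g : ℤ → L[X] := fun e => ∏ x ∈ P e, (X - C (ψ x))
  have hprod : g 1 * g (-1) = cyclotomic q L := by
    apply mul_right_cancel₀ (X_sub_C_ne_zero (1 : L))
    rw [map_one, cyclotomic_prime_mul_X_sub_one]
    have hs : P 1 ∪ P (-1) = Finset.univ.erase 0 := by
      ext x
      simp only [P, Finset.mem_union, Finset.mem_filter, Finset.mem_univ, true_and, Finset.mem_erase,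
        and_true]
      refine ⟨fun h hx => ?_, fun hx => quadraticChar_dichotomy hx⟩
      rw [hx, quadraticChar_zero] at h
      rcases h with h | h <;> norm_num at h
    have hd : Disjoint (P 1) (P (-1)) := Finset.disjoint_filter.mpr fun x _ h h' => by
      rw [h] at h'; norm_num at h'
    rw [← Finset.prod_union hd, hs, ← C_1, ← AddChar.map_zero_eq_one ψ,
      Finset.prod_erase_mul _ _ (Finset.mem_univ _), AddChar.map_zero_eq_one, X_pow_sub_C_eq_prod hζ
        hq.out.pos (one_pow q)]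
    simp only [mul_one]
    refine Finset.prod_nbij' (fun x : ZMod q => x.val) (fun i : ℕ => (i : ZMod q))
      (fun x _ => Finset.mem_range.mpr (ZMod.val_lt x)) (fun i _ => Finset.mem_univ _)
      (fun x _ => ZMod.natCast_rightInverse x) (fun i hi => ZMod.val_cast_of_lt (Finset.mem_range.mp hi))
      (fun x _ => by rw [hψd, AddChar.zmodChar_apply])
  -- how the automorphisms act
  have hact : ∀ f : Gal(L/ℚ), ∃ a : (ZMod q)ˣ, (∀ x, f (ψ x) = ψ ((a : ZMod q) * x)) ∧
      f τ = (χ0 a : L) * τ := by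
    intro f
    refine ⟨hζ.autToPow ℚ f, ?_⟩
    have h1 : ∀ x, f (ψ x) = ψ (((hζ.autToPow ℚ f : (ZMod q)ˣ) : ZMod q) * x) := by
      intro x
      rw [hψd, AddChar.zmodChar_apply, map_pow, ← IsPrimitiveRoot.autToPow_spec ℚ hζ f,
        ← pow_mul, ← AddChar.zmodChar_apply' hζ.pow_eq_one, AddChar.zmodChar_apply, Nat.cast_mul,
        ZMod.natCast_zmod_val, ZMod.natCast_zmod_val]
      rfl
    refine ⟨h1, ?_⟩
    generalize hζ.autToPow ℚ f = a at h1 ⊢
    have h2 : f τ = gaussSum χ (ψ.mulShift a) := by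
      rw [hτd, gaussSum, gaussSum, map_sum]
      refine Finset.sum_congr rfl fun x _ => ?_
      rw [map_mul, h1, AddChar.mulShift_apply, show χ x = ((χ0 x : ℤ) : L) from rfl, map_intCast]
    rw [h2, gaussSum_mulShift_eq, hχq.inv]
    rfl
  have hmap : ∀ (f : Gal(L/ℚ)) (a : (ZMod q)ˣ), (∀ x, f (ψ x) = ψ ((a : ZMod q) * x)) → ∀ e : ℤ,
      (g e).map (f : L →+* L) = g (χ0 a * e) := by
    intro f a ha e
    have hsq : χ0 (a : ZMod q) * χ0 (a : ZMod q) = 1 := by rw [← pow_two, quadraticChar_sq_one a.ne_zero]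
    simp only [g]
    rw [Polynomial.map_prod]
    refine Finset.prod_nbij' (fun x => (a : ZMod q) * x) (fun x => (↑a⁻¹ : ZMod q) * x)
      (fun x hx => ?_) (fun x hx => ?_) (fun x _ => Units.inv_mul_cancel_left a x) (fun x _ => Units.mul_inv_cancel_left a x) (fun x _ => ?_)
    · simp only [P, Finset.mem_filter, Finset.mem_univ, true_and] at hx ⊢
      rw [map_mul, hx]
    · simp only [P, Finset.mem_filter, Finset.mem_univ, true_and] at hx ⊢
      have h := congrArg (fun t => χ0 (a : ZMod q) * t)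
        (show χ0 ((a : ZMod q) * ((↑a⁻¹ : ZMod q) * x)) = χ0 a * e by rw [Units.mul_inv_cancel_left, hx])
      simp only [map_mul] at h
      rw [← mul_assoc, ← mul_assoc, ← mul_assoc, hsq, one_mul, one_mul] at h
      rw [map_mul, h]
    · rw [Polynomial.map_sub, map_X, map_C, ← ha x]
      rfl
  have hrat : ∀ p : L[X], (∀ f : Gal(L/ℚ), p.map (f : L →+* L) = p) →
      ∃ p0 : ℚ[X], p0.map (algebraMap ℚ L) = p := by
    intro p hp
    refine (mem_lifts p).mp ((lifts_iff_coeff_lifts p).mpr fun n => ?_)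
    rw [IsGalois.mem_range_algebraMap_iff_fixed]
    intro f
    conv_rhs => rw [← hp f, coeff_map]
    rfl
  obtain ⟨U, hU⟩ := hrat (C (1 / 2 : L) * (g 1 + g (-1))) (fun f => by
    obtain ⟨a, ha, -⟩ := hact f
    rw [Polynomial.map_mul, Polynomial.map_add, hmap f a ha, hmap f a ha, map_C]
    rcases quadraticChar_dichotomy a.ne_zero with h | h <;> rw [← hχ0] at h <;> simp [h, map_ofNat, add_comm])
  obtain ⟨V, hV⟩ := hrat (C (1 / (2 * τ)) * (g (-1) - g 1)) (fun f => by
    obtain ⟨a, ha, hfτ⟩ := hact f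
    rw [Polynomial.map_mul, Polynomial.map_sub, hmap f a ha, hmap f a ha, map_C]
    rcases quadraticChar_dichotomy a.ne_zero with h | h <;> rw [← hχ0] at h
    · simp [h, hfτ, map_ofNat]
    · have e1 : f (1 / (2 * τ)) = -(1 / (2 * τ)) := by
        rw [map_div₀, map_one, map_mul, map_ofNat, hfτ, h]
        simp
      rw [show ((f : L →+* L)) (1 / (2 * τ)) = -(1 / (2 * τ)) from e1, h, C_neg]
      norm_num
      ring)
  refine ⟨U, V, Polynomial.map_injective _ (algebraMap ℚ L).injective ?_⟩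
  rw [map_cyclotomic, ← hprod, Polynomial.map_add, Polynomial.map_mul, Polynomial.map_pow,
    Polynomial.map_pow, hU, hV, map_C, map_natCast]
  have hc : (q : L) = -τ ^ 2 := by rw [hτ2, neg_neg]
  have h2 : (C τ : L[X]) * C (1 / (2 * τ)) = C (1 / 2) := by
    rw [← C_mul, mul_one_div, div_mul_eq_div_div_swap, div_self hτ0]
  have h4 : (2 : L[X]) * C (1 / 2) = 1 := by
    rw [← map_ofNat C 2, ← C_mul, mul_one_div_cancel (two_ne_zero : (2 : L) ≠ 0), C_1]
  rw [hc, C_neg, C_pow]
  linear_combination (-(g (-1) - g 1) ^ 2 * (C τ * C (1 / (2 * τ)) + C (1 / 2))) * h2 +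
    (g 1 * g (-1) * (2 * C (1 / 2) + 1)) * h4

end

end CfsgLib.DivRing
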