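import Cfsg.Agent.Lib.DivRing.SumTwoSq

/-!
# Two identities excluding larger finite subgroups of division rings
-/

set_option autoImplicit false
set_option linter.style.haveILetI false

namespace CfsgLib.DivRing

universe u

variable {D : Type u} [DivisionRing D]

/-- A commutative subfield of a division ring generated by commuting elements. -/
def commSub (S : Set D) : Subring D :=
  Subring.centralizer (Subring.centralizer S : Set D)

theorem commSub_mul_comm {S : Set D} (hS : ∀ a ∈ S, ∀ b ∈ S, Commute a b) {x y : D}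
    (hx : x ∈ commSub S) (hy : y ∈ commSub S) : x * y = y * x := by
  have hle : S ⊆ (Subring.centralizer S : Set D) := fun a ha =>
    Subring.mem_centralizer_iff.mpr fun b hb => hS b hb a ha
  have hy' : y ∈ Subring.centralizer S := Subring.mem_centralizer_iff.mpr fun b hb =>
    Subring.mem_centralizer_iff.mp hy b (hle hb)
  exact (Subring.mem_centralizer_iff.mp hx y hy').symm

theorem mem_commSub {S : Set D} {a : D} (ha : a ∈ S) : a ∈ commSub S :=
  Subring.mem_centralizer_iff.mpr fun _ hc => (Subring.mem_centralizer_iff.mp hc a ha).symm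

theorem commute_commSub {S : Set D} {c x : D} (hc : ∀ a ∈ S, Commute a c) (hx : x ∈ commSub S) :
    Commute c x :=
  Subring.mem_centralizer_iff.mp hx c (Subring.mem_centralizer_iff.mpr fun a ha => hc a ha)

variable [CharZero D]

/-- No central element of prime order `p ≥ 7` next to a binary icosahedral group. -/
theorem no_central_prime {i j r c : D} (hi : i * i = -1) (hj : j * j = -1) (hji : j * i = -(i * j))
    (hr : r * r = 5) (hri : Commute r i) (hrj : Commute r j) (hrc : Commute r c) (hci : Commute c i)
    (hcj : Commute c j) {p : ℕ} [Fact p.Prime] (hp7 : 7 ≤ p) (hc : orderOf c = p) : False := by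
  set S : Set D := {r, c} with hS
  have hcomm : ∀ a ∈ S, ∀ b ∈ S, Commute a b := by
    rintro a (rfl | rfl) b (rfl | rfl) <;> first | exact Commute.refl _ | exact hrc | exact hrc.symm
  let B := commSub S
  have hfield : IsField B :=
    { exists_pair_ne := ⟨0, 1, zero_ne_one⟩
      mul_comm := fun x y => Subtype.ext (commSub_mul_comm hcomm x.2 y.2)
      mul_inv_cancel := fun {a} ha => ⟨⟨(a : D)⁻¹, Set.inv_mem_centralizer₀ a.2⟩,
        Subtype.ext (mul_inv_cancel₀ fun h => ha (Subtype.ext h))⟩ }
  letI : Field B := hfield.toField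
  haveI : CharZero B :=
    ⟨fun m n h => Nat.cast_injective (R := D) (by simpa using congrArg (fun z : B => (z : D)) h)⟩
  have hr' : (⟨r, mem_commSub (Or.inl rfl)⟩ : B) ^ 2 = 5 := by
    rw [pow_two]; exact Subtype.ext hr
  have hz : IsPrimitiveRoot (⟨c, mem_commSub (Or.inr rfl)⟩ : B) p := by
    rw [IsPrimitiveRoot.iff_orderOf, ← orderOf_injective B.subtype.toMonoidHom Subtype.coe_injective]
    exact hc
  obtain ⟨a, b, x, y, h⟩ := exists_neg_one_eq hr' hp7 hz
  have hI : ∀ z : B, Commute i (z : D) := fun z => commute_commSub (by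
    rintro _ (rfl | rfl)
    · exact hri
    · exact hci) z.2
  have hJ : ∀ z : B, Commute j (z : D) := fun z => commute_commSub (by
    rintro _ (rfl | rfl)
    · exact hrj
    · exact hcj) z.2
  have hB : ∀ z w : B, Commute (z : D) (w : D) := fun z w => commSub_mul_comm hcomm z.2 w.2
  have h' : (x : D) * x + ((a : D) * a + (b : D) * b) * ((y : D) * y) = -1 := by
    rw [pow_two, pow_two, pow_two, pow_two] at h
    exact congrArg (fun z : B => (z : D)) h
  set k := i * j with hk
  have hkk : k * k = -1 := by
    rw [hk, mul_assoc, ← mul_assoc j, hji, neg_mul, mul_neg, mul_assoc, hj, mul_neg_one, mul_neg, neg_neg, hi]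
  have hK : ∀ z : B, Commute k (z : D) := fun z => (hI z).mul_left (hJ z)
  have hik : i * k = -(k * i) := by
    rw [hk, mul_assoc i j i, hji, mul_neg, neg_neg]
  have hjk : j * k = -(k * j) := by
    rw [hk, ← mul_assoc, hji, neg_mul]
  set u := (a : D) * j + (b : D) * k with hu
  have huu : u * u = -((a : D) * a + (b : D) * b) := by
    rw [hu, add_mul, mul_add, mul_add, (hJ a).mul_mul_mul_comm, (hJ b).mul_mul_mul_comm,
      (hK a).mul_mul_mul_comm, (hK b).mul_mul_mul_comm, hj, hkk, hjk, (hB b a).eq]
    simp only [mul_neg, mul_one]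
    abel
  have hiu : i * u = -(u * i) := by
    rw [hu, mul_add, add_mul, ← mul_assoc, ← mul_assoc, (hI a).eq, (hI b).eq, mul_assoc, mul_assoc, hik,
      mul_assoc (a : D) j i, hji, mul_assoc (b : D) k i]
    simp only [mul_neg]
    abel
  have hU : ∀ z : B, Commute u (z : D) := fun z =>
    ((hB a z).mul_left (hJ z)).add_left ((hB b z).mul_left (hK z))
  clear_value u
  have h2 : ∀ w : D, w + w = 0 → w = 0 := fun w hw => by
    rw [← two_mul] at hw
    exact (mul_eq_zero.mp hw).resolve_left two_ne_zero
  have hfin : (x : D) * x = -1 → False := fun hx => by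
    have hm : (i - x) * (i + x) = 0 := by
      rw [← (hI x).mul_self_sub_mul_self_eq', hi, hx, sub_self]
    have hcj' : Commute i j := by
      rcases mul_eq_zero.mp hm with h0 | h0
      · rw [sub_eq_zero.mp h0]; exact (hJ x).symm
      · rw [eq_neg_of_add_eq_zero_left h0]; exact (hJ x).symm.neg_left
    have h0 : i * j = 0 := h2 _ (by
      nth_rw 1 [hcj'.eq]
      rw [hji, neg_add_cancel])
    have := mul_ne_zero (left_ne_zero_of_mul (a := i) (b := i) (by rw [hi]; exact neg_ne_zero.mpr one_ne_zero))
      (left_ne_zero_of_mul (a := j) (b := j) (by rw [hj]; exact neg_ne_zero.mpr one_ne_zero))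
    exact this h0
  set z := (x : D) * i + (y : D) * u with hz'
  have hzz : z * z = 1 := by
    rw [hz', add_mul, mul_add, mul_add, (hI x).mul_mul_mul_comm, (hI y).mul_mul_mul_comm,
      (hU x).mul_mul_mul_comm, (hU y).mul_mul_mul_comm, hi, huu, hiu, (hB y x).eq]
    simp only [mul_neg, mul_one]
    rw [show -((x : D) * x) + -((x : D) * y * (u * i)) +
        ((x : D) * y * (u * i) + -((y : D) * y * ((a : D) * a + (b : D) * b))) =
        -((x : D) * x + (y : D) * y * ((a : D) * a + (b : D) * b)) by abel,
      show (y : D) * y * ((a : D) * a + (b : D) * b) = ((a : D) * a + (b : D) * b) * ((y : D) * y) from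
        ((((hB y a).mul_right (hB y a)).add_right ((hB y b).mul_right (hB y b))).mul_left
          (((hB y a).mul_right (hB y a)).add_right ((hB y b).mul_right (hB y b)))).eq,
      h', neg_neg]
  have hzc : Commute i z := by
    rcases mul_self_eq_one_iff.mp hzz with h0 | h0 <;> rw [h0]
    · exact Commute.one_right i
    · exact (Commute.one_right i).neg_right
  have hyu : (y : D) * (i * u) = 0 := h2 _ (by
    have := hzc.eq
    rw [hz', mul_add, add_mul, ← mul_assoc i (x : D) i, (hI x).eq, ← mul_assoc i (y : D) u, (hI y).eq,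
      mul_assoc (y : D) i u, mul_assoc (y : D) u i, add_left_cancel_iff] at this
    nth_rw 2 [this]
    rw [hiu, mul_neg, neg_add_cancel])
  rcases mul_eq_zero.mp hyu with h0 | h0
  · exact hfin (by simpa [h0] using h')
  · rcases mul_eq_zero.mp h0 with h1 | h1
    · exact absurd hi (by rw [h1, mul_zero]; exact (neg_ne_zero.mpr one_ne_zero).symm)
    · rw [h1, mul_zero, eq_comm, neg_eq_zero] at huu
      exact hfin (by simpa [huu] using h')

/-- No binary icosahedral group extended by the outer automorphism. -/
theorem no_outer {i j r g : D} (hi : i * i = -1) (hj : j * j = -1) (hji : j * i = -(i * j))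
    (hg : g * g = -1) (hgi : g * i = j * g) (hgj : g * j = i * g) (hr : r * r = 5)
    (hri : Commute r i) (hrj : Commute r j) (hgr : g * r = -(r * g)) : False := by
  set w := r * ((i + j) * g) with hw
  set u := 3 * i + j with hu
  have h3 : ∀ x : D, Commute (3 : D) x := fun x => Commute.ofNat_left 3 x
  have hij2 : (i + j) * (i + j) = -2 := by
    simp only [add_mul, mul_add, hi, hj, hji]
    norm_num
  have hgs : g * (i + j) = (i + j) * g := by rw [mul_add, add_mul, hgi, hgj, add_comm]
  have hrs : Commute r (i + j) := hri.add_right hrj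
  have hgsr : ((i + j) * g) * r = -(r * ((i + j) * g)) := by
    rw [mul_assoc, hgr, mul_neg, ← mul_assoc, ← hrs.eq, mul_assoc]
  have hw2 : w * w = -10 := by
    calc w * w = r * (((i + j) * g) * r) * ((i + j) * g) := by rw [hw]; simp only [mul_assoc]
      _ = -(r * r * (((i + j) * g) * ((i + j) * g))) := by
        rw [hgsr, mul_neg, neg_mul]; simp only [mul_assoc]
      _ = -(r * r * (((i + j) * (i + j)) * (g * g))) := by
        congr 2; rw [mul_assoc, ← mul_assoc g, hgs]; simp only [mul_assoc]
      _ = -10 := by rw [hr, hij2, hg]; norm_num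
  have hu2 : u * u = -10 := by
    rw [hu, add_mul, mul_add, mul_add, (h3 i).symm.mul_mul_mul_comm, hi, hj, mul_assoc 3 i j,
      ← mul_assoc j, (h3 j).symm.eq, mul_assoc 3 j i, hji]
    norm_num
  have hgu : g * u = (3 * j + i) * g := by
    rw [hu, mul_add, add_mul, ← mul_assoc, (h3 g).symm.eq, mul_assoc, hgi, hgj, mul_assoc]
  have hkey : (i + j) * (3 * j + i) = (3 * i + j) * (i + j) := by
    simp only [add_mul, mul_add, ← mul_assoc, (h3 i).symm.eq, (h3 j).symm.eq]
    simp only [mul_assoc, hi, hj, hji]
    norm_num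
    abel
  have hru : Commute r u := (((h3 r).symm).mul_right hri).add_right hrj
  have hc : Commute w u := by
    show w * u = u * w
    rw [hw, mul_assoc r, mul_assoc (i + j), hgu, ← mul_assoc (i + j), hkey, ← mul_assoc u r, ← hru.eq,
      mul_assoc r u, mul_assoc (3 * i + j)]
  have hm : (w - u) * (w + u) = 0 := by
    rw [← hc.mul_self_sub_mul_self_eq', hw2, hu2, sub_self]
  have hwr : w * r = -(r * w) := by
    rw [hw, mul_assoc r, hgsr, mul_neg]
  have hcr : Commute r w := by
    rcases mul_eq_zero.mp hm with h0 | h0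
    · rw [sub_eq_zero.mp h0]; exact hru
    · rw [eq_neg_of_add_eq_zero_left h0]; exact hru.neg_right
  rw [← hcr.eq, eq_neg_iff_add_eq_zero, ← two_mul, mul_eq_zero, mul_eq_zero] at hwr
  rcases hwr with h0 | h0 | h0
  · exact two_ne_zero h0
  · rw [h0, mul_zero] at hr; norm_num at hr
  · rw [h0, mul_zero] at hw2; norm_num at hw2

end CfsgLib.DivRing
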