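import Cfsg.Agent.Lib.DivRing.NoExtension
import Cfsg.Agent.Lib.PerfectCompl.Nonsolvable
import Cfsg.Agent.Lib.Classical.Transvection

/-!
# Non-solvable finite subgroups of division rings
-/

set_option autoImplicit false
set_option linter.style.haveILetI false

open Matrix

namespace CfsgLib.DivRing

universe u v

local notation "SL25" => Matrix.SpecialLinearGroup (Fin 2) (ZMod 5)
local notation "S5" => Equiv.Perm (Fin 5)

/-- The element of order four. -/
def mS : SL25 := ⟨!![0, -1; 1, 0], by decide⟩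
/-- The element of order three. -/
def mT : SL25 := ⟨!![0, -1; 1, -1], by decide⟩
/-- A second element of order four, inverting the first. -/
def mJ : SL25 := ⟨!![2, 0; 0, 3], by decide⟩

theorem mS_sq_ne : mS ^ 2 ≠ 1 := by decide
theorem mS_four : (mS ^ 2) ^ 2 = 1 := by decide
theorem mT_ne : mT ≠ 1 := by decide
theorem mT_three : mT ^ 3 = 1 := by decide
theorem mX_five_ne : (mS * mT) ^ 5 ≠ 1 := by decide
theorem mX_two_ne : (mS * mT) ^ 2 ≠ 1 := by decide
theorem mX_ten : ((mS * mT) ^ 5) ^ 2 = 1 := by decide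
theorem mJ_sq : mJ * mJ = mS * mS := by decide
theorem mJS : mJ * mS = mS * mS * (mS * mJ) := by decide

/-- Generation by the two elements. -/
theorem closure_eq_top : Subgroup.closure ({mS, mT} : Set SL25) = ⊤ := by
  set K := Subgroup.closure ({mS, mT} : Set SL25)
  have hs : mS ∈ K := Subgroup.subset_closure (Or.inl rfl)
  have ht : mT ∈ K := Subgroup.subset_closure (Or.inr rfl)
  have hu : (mS * mS * (mS * mT))⁻¹ ∈ K := inv_mem (mul_mem (mul_mem hs hs) (mul_mem hs ht))
  have hl : mS * (mS * mS * (mS * mT)) * mS⁻¹ ∈ K :=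
    mul_mem (mul_mem hs (mul_mem (mul_mem hs hs) (mul_mem hs ht))) (inv_mem hs)
  have e1 : ∀ c : ZMod 5, SpecialLinearGroup.transvection (show (0 : Fin 2) ≠ 1 by decide) c =
      (mS * mS * (mS * mT))⁻¹ ^ c.val := by decide
  have e2 : ∀ c : ZMod 5, SpecialLinearGroup.transvection (show (1 : Fin 2) ≠ 0 by decide) c =
      (mS * (mS * mS * (mS * mT)) * mS⁻¹) ^ c.val := by decide
  refine CfsgLib.Classical.eq_top_of_transvection_mem K fun i j hij c => ?_
  fin_cases i <;> fin_cases j
  · exact absurd rfl hij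
  · exact e1 c ▸ pow_mem hu _
  · exact e2 c ▸ pow_mem hl _
  · exact absurd rfl hij

/-- A noncommutative finite subgroup of a division ring forces characteristic zero. -/
theorem charZero_of_noncomm {D : Type v} [DivisionRing D] {G : Type u} [Group G] [Finite G]
    (f : G →* D) (h : ∃ a b : G, f a * f b ≠ f b * f a) : CharZero D := by
  obtain ⟨q, hq⟩ := CharP.exists D
  haveI := hq
  rcases CharP.char_is_prime_or_zero D q with hprime | hzero
  · exfalso
    obtain ⟨a, b, hab⟩ := h
    haveI := Fact.mk hprime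
    letI : Algebra (ZMod q) D := ZMod.algebra D q
    set R := Algebra.adjoin (ZMod q) (Set.range f) with hR
    haveI : Module.Finite (ZMod q) R := by
      refine Module.Finite.iff_fg.mpr (show (Subalgebra.toSubmodule R).FG from ?_)
      rw [hR, Algebra.adjoin_eq_span,
        show Submonoid.closure (Set.range f) = MonoidHom.mrange f by
          rw [← MonoidHom.coe_mrange, Submonoid.closure_eq], MonoidHom.coe_mrange]
      exact Submodule.fg_span (Set.finite_range f)
    haveI : Finite R := Module.finite_of_finite (ZMod q)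
    exact hab (congrArg Subtype.val ((Finite.isDomain_to_isField R).mul_comm
      ⟨f a, Algebra.subset_adjoin ⟨a, rfl⟩⟩ ⟨f b, Algebra.subset_adjoin ⟨b, rfl⟩⟩))
  · subst hzero
    exact CharP.charP_to_charZero D

variable {G : Type u} [Group G] [Finite G] {D : Type v} [DivisionRing D]

/-- A non-solvable finite subgroup of a division ring is `SL(2, 5)`. -/
theorem iso_SL25_of_nonsolvable (hG : CfsgLib.FrobCompl.HasFpf G) (f : G →* D)
    (hf : Function.Injective f) (hns : ¬ Group.IsSolvable G) : Nonempty (G ≃* SL25) := by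
  classical
  haveI : CharZero D := by
    refine charZero_of_noncomm f ?_
    by_contra h
    push Not at h
    exact hns (Group.isSolvable_of_comm fun a b => hf (by rw [map_mul, map_mul, h a b]))
  obtain ⟨E, M, θ, hEn, hMn, ⟨e⟩, hdisj, hcomm, hcop, -, hker, hkcard, hAlt, hkle, -, hidx⟩ :=
    CfsgLib.PerfectCompl.nonsolvable_structure hG hns
  haveI := hEn
  have hinv : ∀ g : G, g ≠ 1 → g ^ 2 = 1 → f g = -1 := fun g h1 h2 => by
    rcases mul_self_eq_one_iff.mp (show f g * f g = 1 by rw [← map_mul, ← pow_two, h2, map_one]) with h | h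
    · exact absurd (hf (h.trans (map_one f).symm)) h1
    · exact h
  let ι : SL25 →* G := E.subtype.comp e.symm.toMonoidHom
  have hι : Function.Injective ι := E.subtype_injective.comp e.symm.injective
  have hιE : ∀ a, ι a ∈ E := fun a => (e.symm a).2
  have hιsurj : ∀ d ∈ E, ∃ a, ι a = d := fun d hd => ⟨e ⟨d, hd⟩, by simp [ι]⟩
  let φ : SL25 →* D := f.comp ι
  have hφ : Function.Injective φ := hf.comp hι
  have hφinv : ∀ a : SL25, a ≠ 1 → a ^ 2 = 1 → φ a = -1 := fun a h1 h2 =>
    hinv (ι a) (fun h => h1 (hι (h.trans (map_one ι).symm))) (by rw [← map_pow, h2, map_one])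
  have hS : φ mS * φ mS = -1 := by rw [← map_mul, ← pow_two]; exact hφinv _ mS_sq_ne mS_four
  have hJ : φ mJ * φ mJ = -1 := by rw [← map_mul, mJ_sq, map_mul, hS]
  have hJS : φ mJ * φ mS = -(φ mS * φ mJ) := by
    rw [← map_mul, mJS, map_mul, map_mul, map_mul, hS, neg_one_mul]
  have hW : φ mT * φ mT + φ mT + 1 = 0 := by
    have h3 : φ mT * (φ mT * φ mT) = 1 := by rw [← map_one φ, ← mT_three, pow_three, map_mul, map_mul]
    have hm : (φ mT - 1) * (φ mT * φ mT + φ mT + 1) = 0 := by
      rw [sub_mul, mul_add, mul_add, h3, mul_one, one_mul]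
      abel
    exact (mul_eq_zero.mp hm).resolve_left (sub_ne_zero.mpr fun h => mT_ne (hφ (h.trans (map_one φ).symm)))
  set S := φ mS with hSd
  set W := φ mT with hWd
  set X := φ (mS * mT) with hXd
  set X' := φ (mS * mT)⁻¹ with hX'd
  set T := X + X' with hTd
  have hWW : W * W = -1 - W := by
    rw [eq_sub_iff_add_eq]; exact eq_neg_of_add_eq_zero_left hW
  have hT : T = S * W + W * S + S := by
    have hS' : φ mS⁻¹ = -S := by
      have h1 : φ mS⁻¹ * S = 1 := by rw [hSd, ← map_mul, inv_mul_cancel, map_one]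
      calc φ mS⁻¹ = φ mS⁻¹ * (S * -S) := by rw [mul_neg, hS, neg_neg, mul_one]
        _ = -S := by rw [← mul_assoc, h1, one_mul]
    have hW' : φ mT⁻¹ = W * W := by
      have h1 : φ mT⁻¹ = φ (mT * mT) := by rw [show mT⁻¹ = mT * mT by decide]
      rw [h1, map_mul]
    rw [hTd, hXd, hX'd, _root_.mul_inv_rev, map_mul, map_mul, hS', hW', hWW, sub_mul, mul_neg, neg_mul, neg_neg,
      mul_neg, sub_neg_eq_add]
    simp only [one_mul]
    abel
  have hTS : Commute S T := by
    show S * T = T * S
    rw [hT]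
    simp only [mul_add, add_mul, ← mul_assoc, hS]
    rw [mul_assoc W S S, hS]
    simp only [mul_neg, neg_mul, one_mul, mul_one]
    abel
  have hTW : Commute W T := by
    show W * T = T * W
    rw [hT]
    simp only [mul_add, add_mul, mul_assoc]
    rw [← mul_assoc W W S, hWW, sub_mul, mul_sub]
    simp only [neg_mul, one_mul, mul_neg, mul_one]
    abel
  have hTall : ∀ a : SL25, Commute (φ a) T := by
    intro a
    have ha : a ∈ Subgroup.closure ({mS, mT} : Set SL25) := closure_eq_top ▸ Subgroup.mem_top a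
    induction ha using Subgroup.closure_induction with
    | mem x hx =>
      rcases hx with rfl | rfl
      · exact hTS
      · exact hTW
    | one => rw [map_one]; exact Commute.one_left T
    | mul x y _ _ hx hy => rw [map_mul]; exact hx.mul_left hy
    | inv x _ hx =>
      have h1 : φ x⁻¹ * φ x = 1 := by rw [← map_mul, inv_mul_cancel, map_one]
      have h2 : φ x * φ x⁻¹ = 1 := by rw [← map_mul, mul_inv_cancel, map_one]
      show φ x⁻¹ * T = T * φ x⁻¹
      calc φ x⁻¹ * T = φ x⁻¹ * T * (φ x * φ x⁻¹) := by rw [h2, mul_one]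
        _ = φ x⁻¹ * (φ x * T) * φ x⁻¹ := by rw [hx.eq]; simp only [mul_assoc]
        _ = T * φ x⁻¹ := by rw [← mul_assoc, h1, one_mul]
  have hXX : X * X' = 1 := by rw [hXd, hX'd, ← map_mul, mul_inv_cancel, map_one]
  have hX'X : X' * X = 1 := by rw [hXd, hX'd, ← map_mul, inv_mul_cancel, map_one]
  have hX5 : X ^ 5 = -1 := by rw [hXd, ← map_pow]; exact hφinv _ mX_five_ne mX_ten
  have hq : X ^ 4 - X ^ 3 + X ^ 2 - X + 1 = 0 := by
    have hm : (X + 1) * (X ^ 4 - X ^ 3 + X ^ 2 - X + 1) = 0 := by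
      rw [← neg_add_cancel (1 : D)]
      nth_rw 1 [← hX5]
      noncomm_ring
    refine (mul_eq_zero.mp hm).resolve_left fun h => mX_two_ne (hφ ?_)
    rw [map_pow, map_one, ← hXd, eq_neg_of_add_eq_zero_left h, neg_one_sq]
  have hT2 : T * T = T + 1 := by
    have h : X' * (X' * (X ^ 4 - X ^ 3 + X ^ 2 - X + 1)) = 0 := by rw [hq, mul_zero, mul_zero]
    simp only [mul_add, mul_sub, pow_succ', pow_zero, mul_one, ← mul_assoc, hX'X, one_mul] at h
    rw [← sub_eq_zero, hTd, add_mul, mul_add, mul_add, hXX, hX'X, ← h]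
    abel
  set r := T + T - 1 with hrd
  have hr : r * r = 5 := by
    rw [hrd]
    simp only [add_mul, mul_add, sub_mul, mul_sub, hT2, one_mul, mul_one]
    abel_nf
    norm_num
  have hrc : ∀ x : D, Commute T x → Commute r x := fun x h => (h.add_left h).sub_left (Commute.one_left x)
  -- the centralizer is central of order two
  have hM : M = ⊥ := by
    by_contra hM
    obtain ⟨p, hp, hpd⟩ := Nat.exists_prime_and_dvd
      (fun h => hM (M.card_eq_one.mp h) : Nat.card M ≠ 1)
    haveI := Fact.mk hp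
    obtain ⟨c, hc⟩ := exists_prime_orderOf_dvd_card' (G := M) p hpd
    have hp7 : 7 ≤ p := by
      have h := Nat.Coprime.coprime_dvd_left hpd hcop
      rw [hp.coprime_iff_not_dvd] at h
      rcases lt_or_ge p 7 with h7 | h7
      · exfalso; apply h
        have := hp.two_le
        interval_cases p <;> first | (norm_num; done) | exact absurd hp (by norm_num)
      · exact h7
    have hcE : ∀ a, Commute (f c) (φ a) := fun a =>
      (show f (c : G) * f (ι a) = f (ι a) * f (c : G) by rw [← map_mul, ← map_mul, hcomm _ (hιE a) c c.2])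
    have hcT : Commute (f c) T := (hcE (mS * mT)).add_right (hcE (mS * mT)⁻¹)
    exact no_central_prime hS hJ hJS hr (hrc _ (hTall mS).symm) (hrc _ (hTall mJ).symm) (hrc _ hcT.symm)
      (hcE mS) (hcE mJ) hp7 (by rw [orderOf_injective f hf, Subgroup.orderOf_coe, hc])
  rw [hM, Subgroup.card_bot] at hkcard
  rw [hM, sup_bot_eq] at hkle hidx
  rcases hidx with h1 | h2
  · rw [Subgroup.index_eq_one] at h1
    exact ⟨(Subgroup.topEquiv.symm.trans (MulEquiv.subgroupCongr h1.symm)).trans e⟩
  exfalso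
  have hz : (ι (mS * mS)) ∈ θ.ker := by
    rw [hker, Subgroup.mem_centralizer_iff]
    intro d hd
    obtain ⟨a, rfl⟩ := hιsurj d hd
    apply hf
    show f (ι a * ι (mS * mS)) = f (ι (mS * mS) * ι a)
    rw [map_mul f, map_mul f, show f (ι (mS * mS)) = -1 by rw [← hS, ← map_mul]; rfl, mul_neg_one, neg_one_mul]
  have hkmem : ∀ g ∈ θ.ker, g = 1 ∨ g = ι (mS * mS) := by
    intro g hg
    by_contra hne
    push Not at hne
    have hne' : ι (mS * mS) ≠ 1 := fun h => mS_sq_ne (by rw [pow_two]; exact hι (h.trans (map_one ι).symm))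
    have h3 : ({1, ι (mS * mS), g} : Finset G).card = 3 :=
      Finset.card_eq_three.mpr ⟨_, _, _, hne'.symm, hne.1.symm, hne.2.symm, rfl⟩
    have h4 : ((({1, ι (mS * mS), g} : Finset G) : Set G)).ncard ≤ (θ.ker : Set G).ncard :=
      Set.ncard_le_ncard (by
        intro x hx
        simp only [Finset.coe_insert, Finset.coe_singleton, Set.mem_insert_iff, Set.mem_singleton_iff] at hx
        rcases hx with rfl | rfl | rfl
        exacts [one_mem _, hz, hg]) (Set.toFinite _)
    rw [Set.ncard_coe_finset, h3, ← Nat.card_coe_set_eq] at h4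
    change 3 ≤ Nat.card θ.ker at h4
    omega
  have hkeq : ∀ g g' : G, θ g = θ g' → g = g' ∨ g = g' * ι (mS * mS) := fun g g' h => by
    rcases hkmem (g'⁻¹ * g) (by rw [MonoidHom.mem_ker, map_mul, map_inv, h, inv_mul_cancel]) with h' | h'
    · exact Or.inl (inv_mul_eq_one.mp h').symm
    · exact Or.inr (inv_mul_eq_iff_eq_mul.mp h')
  -- the image is everything
  obtain ⟨g₀, hg₀⟩ : ∃ g₀, g₀ ∉ E := by
    by_contra h
    push Not at h
    rw [(Subgroup.eq_top_iff' E).mpr h, Subgroup.index_top] at h2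
    omega
  have hodd : θ g₀ ∉ alternatingGroup (Fin 5) := fun h => by
    obtain ⟨d, hd, hde⟩ := hAlt _ h
    rcases hkeq g₀ d hde.symm with rfl | rfl
    · exact hg₀ hd
    · exact hg₀ (mul_mem hd (hιE _))
  have hsurj : ∀ π : S5, ∃ g, θ g = π := by
    intro π
    by_cases h : π ∈ alternatingGroup (Fin 5)
    · obtain ⟨d, -, hd⟩ := hAlt π h; exact ⟨d, hd⟩
    · obtain ⟨d, -, hd⟩ := hAlt (π * (θ g₀)⁻¹) (by
        rw [Subgroup.mul_mem_iff_of_index_two alternatingGroup.index_eq_two]
        simp [h, hodd])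
      exact ⟨d * g₀, by rw [map_mul, hd, inv_mul_cancel_right]⟩
  -- an element acting on `T` as the field automorphism
  have hθz : θ (ι (mS * mS)) = 1 := MonoidHom.mem_ker.mp hz
  have hxne : θ (ι (mS * mT)) ≠ 1 := fun h => by
    rcases hkeq (ι (mS * mT)) 1 (by rw [h, map_one]) with h' | h'
    · exact mX_two_ne (hι (by rw [map_pow, h', one_pow, map_one]))
    · rw [one_mul] at h'
      exact mX_two_ne (by rw [hι h', ← pow_two]; exact mS_four)
  have hσ5 : orderOf (θ (ι (mS * mT))) = 5 := by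
    haveI : Fact (Nat.Prime 5) := ⟨by norm_num⟩
    refine orderOf_eq_prime ?_ hxne
    rw [← map_pow θ, ← map_pow ι]
    rcases eq_or_ne ((mS * mT) ^ 5) 1 with h | h
    · exact absurd h mX_five_ne
    · rw [show (mS * mT) ^ 5 = mS * mS from by decide]; exact hθz
  obtain ⟨π, hπ⟩ : ∃ π, π * θ (ι (mS * mT)) * π⁻¹ = θ (ι (mS * mT)) ^ 3 := by
    have hp5 : (orderOf (θ (ι (mS * mT)))).Prime := by rw [hσ5]; norm_num
    have hcop' : (orderOf (θ (ι (mS * mT)))).Coprime 3 := by rw [hσ5]; norm_num
    have ho : orderOf (θ (ι (mS * mT)) ^ 3) = 5 := by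
      rw [Nat.Coprime.orderOf_pow hcop', hσ5]
    rw [← isConj_iff, Equiv.Perm.isConj_iff_cycleType_eq]
    obtain ⟨n, hn⟩ := Equiv.Perm.cycleType_prime_order hp5
    obtain ⟨m, hm⟩ := Equiv.Perm.cycleType_prime_order (σ := θ (ι (mS * mT)) ^ 3) (by rw [ho]; norm_num)
    have e1 := (θ (ι (mS * mT))).sum_cycleType_le
    have e2 := (θ (ι (mS * mT)) ^ 3).sum_cycleType_le
    rw [hn, hσ5, Multiset.sum_replicate, Fintype.card_fin, smul_eq_mul] at e1
    rw [hm, ho, Multiset.sum_replicate, Fintype.card_fin, smul_eq_mul] at e2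
    rw [hn, hm, hσ5, ho, show n = 0 by omega, show m = 0 by omega]
  obtain ⟨h₀, hh₀⟩ := hsurj π
  have hcx : h₀ * ι (mS * mT) * h₀⁻¹ = ι ((mS * mT) ^ 3) := by
    rcases hkeq (h₀ * ι (mS * mT) * h₀⁻¹) (ι ((mS * mT) ^ 3))
      (by rw [map_mul, map_mul, map_inv, hh₀, hπ, map_pow, map_pow]) with h | h
    · exact h
    · exfalso
      have h5 := congrArg (fun g => g ^ 5) h
      simp only [conj_pow] at h5
      rw [← map_mul, ← map_pow, ← map_pow, show ((mS * mT) ^ 3 * (mS * mS)) ^ 5 = 1 by decide, map_one,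
        mul_inv_eq_one, mul_eq_left] at h5
      exact mX_five_ne (hι (h5.trans (map_one ι).symm))
  have hconjT : f h₀ * T = (1 - T) * f h₀ := by
    have hc1 : f h₀ * X = φ ((mS * mT) ^ 3) * f h₀ := by
      show f h₀ * f (ι (mS * mT)) = f (ι ((mS * mT) ^ 3)) * f h₀
      rw [← map_mul f, ← map_mul f, ← hcx, inv_mul_cancel_right]
    have hc2 : f h₀ * X' = φ (((mS * mT) ^ 3)⁻¹) * f h₀ := by
      show f h₀ * f (ι (mS * mT)⁻¹) = f (ι ((mS * mT) ^ 3)⁻¹) * f h₀
      rw [← map_mul f, ← map_mul f, map_inv ι ((mS * mT) ^ 3), ← hcx, map_inv]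
      congr 1
      group
    have h3 : φ ((mS * mT) ^ 3) + φ (((mS * mT) ^ 3)⁻¹) = 1 - T := by
      rw [← inv_pow, map_pow, map_pow, ← hXd, ← hX'd]
      have h : T * T * T = X ^ 3 + X' ^ 3 + (T + T + T) := by
        rw [hTd]
        simp only [add_mul, mul_add, pow_succ', pow_zero, mul_one, mul_assoc, hXX, hX'X]
        simp only [one_mul]
        abel
      rw [hT2, add_mul, hT2, one_mul] at h
      rw [show X ^ 3 + X' ^ 3 = T + 1 + T - (T + T + T) by rw [h]; abel]
      abel
    rw [hTd, mul_add, hc1, hc2, ← add_mul, h3]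
  have hrh : f h₀ * r = -(r * f h₀) := by
    rw [hrd, mul_sub, mul_add, hconjT]
    simp only [sub_mul, add_mul, one_mul, mul_one]
    abel
  have hh₀E : h₀ ∉ E := fun h => by
    obtain ⟨a, rfl⟩ := hιsurj h₀ h
    have h1 : Commute (f (ι a)) r := (hrc _ (hTall a).symm).symm
    rw [h1.eq, eq_neg_iff_add_eq_zero, ← two_mul, mul_eq_zero, mul_eq_zero] at hrh
    rcases hrh with h0 | h0 | h0
    · exact two_ne_zero h0
    · rw [h0, mul_zero] at hr; norm_num at hr
    · exact one_ne_zero (α := D) (by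
        calc (1 : D) = f (ι a) * f (ι a)⁻¹ := by rw [← map_mul, mul_inv_cancel, map_one]
          _ = 0 := by rw [h0, zero_mul])
  -- an element of order four swapping `i` and `j`
  obtain ⟨g, hg⟩ := hsurj (Equiv.swap 0 1)
  have hgE : g ∉ E := fun h => by
    have h1 : ∀ a : SL25, θ (ι a) ∈ alternatingGroup (Fin 5) := fun a => by
      have ha : a ∈ Subgroup.closure ({mS, mT} : Set SL25) := closure_eq_top ▸ Subgroup.mem_top a
      induction ha using Subgroup.closure_induction with
      | mem x hx =>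
        rw [Equiv.Perm.mem_alternatingGroup]
        have hq' : ∀ σ : S5, σ ^ 15 = 1 → Equiv.Perm.sign σ = 1 := fun σ hσ => by
          have := congrArg Equiv.Perm.sign hσ
          rw [map_pow, map_one] at this
          rcases Int.units_eq_one_or (Equiv.Perm.sign σ) with h | h
          · exact h
          · rw [h] at this; exact absurd this (by decide)
        have hT15 : Equiv.Perm.sign (θ (ι mT)) = 1 :=
          hq' _ (by rw [← map_pow θ, ← map_pow ι, show mT ^ 15 = 1 by decide, map_one, map_one])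
        have hX15 : Equiv.Perm.sign (θ (ι (mS * mT))) = 1 := hq' _ (orderOf_dvd_iff_pow_eq_one.mp (by rw [hσ5]; norm_num))
        rcases hx with rfl | rfl
        · rwa [map_mul, map_mul, map_mul, hT15, mul_one] at hX15
        · exact hT15
      | one => rw [map_one, map_one]; exact one_mem _
      | mul x y _ _ hx hy => rw [map_mul, map_mul]; exact mul_mem hx hy
      | inv x _ hx => rw [map_inv, map_inv]; exact inv_mem hx
    obtain ⟨a, rfl⟩ := hιsurj g h
    have := hg ▸ h1 a
    rw [Equiv.Perm.mem_alternatingGroup, Equiv.Perm.sign_swap (by decide)] at this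
    exact absurd this (by decide)
  have hgr : f g * r = -(r * f g) := by
    obtain ⟨a, ha⟩ := hιsurj (g * h₀⁻¹) (by
      rw [Subgroup.mul_mem_iff_of_index_two h2, inv_mem_iff]
      simp [hgE, hh₀E])
    have h1 : f (ι a) * r = r * f (ι a) := (hrc _ (hTall a).symm).symm.eq
    rw [show g = ι a * h₀ by rw [ha, inv_mul_cancel_right], map_mul, mul_assoc, hrh, mul_neg, ← mul_assoc,
      h1, mul_assoc]
  have hgg : f g * f g = -1 := by
    rw [← map_mul]
    rcases hkmem (g * g) (by rw [MonoidHom.mem_ker, map_mul, hg, Equiv.swap_mul_self]) with h | h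
    · exfalso
      refine hgE ?_
      rcases mul_self_eq_one_iff.mp (show f g * f g = 1 by rw [← map_mul, h, map_one]) with h' | h'
      · rw [hf (h'.trans (map_one f).symm)]; exact one_mem E
      · rw [hf (h'.trans (show -1 = f (ι (mS * mS)) by rw [← hS, ← map_mul]; rfl))]; exact hιE _
    · rw [h, ← hS, ← map_mul]; rfl
  have hpe : (Equiv.swap 0 2 * Equiv.swap 1 3 : S5) ∈ alternatingGroup (Fin 5) :=
    Equiv.Perm.mem_alternatingGroup.mpr (by decide)
  obtain ⟨i₀, hi₀, hθi⟩ := hAlt _ hpe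
  set j₀ := g * i₀ * g⁻¹ with hj₀
  have hj₀E : j₀ ∈ E := hEn.conj_mem i₀ hi₀ g
  have hθj : θ j₀ = Equiv.swap 1 2 * Equiv.swap 0 3 := by
    rw [hj₀, map_mul, map_mul, map_inv, hg, hθi]; decide
  have hi2 : f i₀ * f i₀ = -1 := by
    rw [← map_mul]
    refine hinv _ (fun h => ?_) ?_
    · rcases mul_self_eq_one_iff.mp (show f i₀ * f i₀ = 1 by rw [← map_mul, h, map_one]) with h' | h'
      · rw [hf (h'.trans (map_one f).symm), map_one] at hθi
        exact absurd hθi (by decide)
      · rw [hf (h'.trans (show -1 = f (ι (mS * mS)) by rw [← hS, ← map_mul]; rfl)), hθz] at hθi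
        exact absurd hθi (by decide)
    · rcases hkmem (i₀ * i₀) (by rw [MonoidHom.mem_ker, map_mul, hθi]; decide) with h | h
      · rw [h, one_pow]
      · rw [h, ← map_pow, show (mS * mS) ^ 2 = 1 by decide, map_one]
  have hgi : f g * f i₀ = f j₀ * f g := by rw [← map_mul, ← map_mul, hj₀, inv_mul_cancel_right]
  have hj2 : f j₀ * f j₀ = -1 := by
    have hgi' : f g * f g⁻¹ = 1 := by rw [← map_mul, mul_inv_cancel, map_one]
    calc f j₀ * f j₀ = f g * (f i₀ * f i₀) * f g⁻¹ := by
          rw [hj₀, ← map_mul, ← map_mul, ← map_mul, ← map_mul]; congr 1; group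
      _ = -1 := by rw [hi2, mul_neg_one, neg_mul, hgi']
  have hgj : f g * f j₀ = f i₀ * f g := by
    have h1 : f g⁻¹ = -f g := by
      have h : f g⁻¹ * f g = 1 := by rw [← map_mul, inv_mul_cancel, map_one]
      calc f g⁻¹ = f g⁻¹ * (f g * -f g) := by rw [mul_neg, hgg, neg_neg, mul_one]
        _ = -f g := by rw [← mul_assoc, h, one_mul]
    rw [hj₀, map_mul, map_mul, ← mul_assoc, ← mul_assoc, hgg, h1]
    simp only [neg_mul, one_mul, mul_neg, neg_neg]
  clear_value j₀
  have hji : f j₀ * f i₀ = -(f i₀ * f j₀) := by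
    rcases hkeq (j₀ * i₀) (i₀ * j₀) (by rw [map_mul, map_mul, hθi, hθj]; decide) with h | h
    · exfalso
      have hcm : Commute (f j₀) (f i₀) := by show f j₀ * f i₀ = f i₀ * f j₀; rw [← map_mul, ← map_mul, h]
      have hm : (f j₀ - f i₀) * (f j₀ + f i₀) = 0 := by
        rw [← hcm.mul_self_sub_mul_self_eq', hj2, hi2, sub_self]
      rcases mul_eq_zero.mp hm with h0 | h0
      · rw [hf (sub_eq_zero.mp h0), hθi] at hθj
        exact absurd hθj (by decide)
      · have : j₀ = i₀ * ι (mS * mS) := hf (by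
          rw [map_mul, show f (ι (mS * mS)) = -1 by rw [← hS, ← map_mul]; rfl, mul_neg_one,
            eq_neg_of_add_eq_zero_left h0])
        rw [this, map_mul, hθz, mul_one, hθi] at hθj
        exact absurd hθj (by decide)
    · rw [← map_mul, h, map_mul, map_mul, show f (ι (mS * mS)) = -1 by rw [← hS, ← map_mul]; rfl, mul_neg_one]
  obtain ⟨a, ha⟩ := hιsurj i₀ hi₀
  obtain ⟨b, hb⟩ := hιsurj j₀ hj₀E
  exact no_outer hi2 hj2 hji hgg hgi hgj hr (by rw [← ha]; exact hrc _ (hTall a).symm)
    (by rw [← hb]; exact hrc _ (hTall b).symm) hgr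

end CfsgLib.DivRing
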