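import Cfsg.Agent.Lib.DivRing.GaussForm

/-!
# Minus one is a sum of two squares in `ℚ(√5, ζ_p)`
-/

set_option autoImplicit false
set_option linter.style.haveILetI false

open Polynomial

namespace CfsgLib.DivRing

/-- Being a sum of two squares. -/
def IsSum2 {B : Type*} [Field B] (x : B) : Prop := ∃ a b : B, x = a ^ 2 + b ^ 2

variable {B : Type*} [Field B]

theorem IsSum2.mul {x y : B} (hx : IsSum2 x) (hy : IsSum2 y) : IsSum2 (x * y) := by
  obtain ⟨a, b, rfl⟩ := hx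
  obtain ⟨c, d, rfl⟩ := hy
  exact ⟨a * c - b * d, a * d + b * c, by ring⟩

theorem IsSum2.sq (x : B) : IsSum2 (x ^ 2) := ⟨x, 0, by ring⟩

theorem IsSum2.one : IsSum2 (1 : B) := ⟨1, 0, by ring⟩

theorem IsSum2.inv {x : B} (hx : IsSum2 x) : IsSum2 x⁻¹ := by
  rcases eq_or_ne x 0 with rfl | h
  · rwa [inv_zero]
  · have := hx.mul (IsSum2.sq x⁻¹)
    rwa [pow_two, ← mul_assoc, mul_inv_cancel₀ h, one_mul] at this

theorem IsSum2.div {x y : B} (hx : IsSum2 x) (hy : IsSum2 y) : IsSum2 (x / y) := by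
  rw [div_eq_mul_inv]; exact hx.mul hy.inv

theorem not_isSquare_three : ¬ IsSquare ((3 : ℤ) : ZMod 5) := by
  rintro ⟨z, hz⟩
  revert hz
  revert z
  decide

/-- A small solution of `x² + 5 y² ≡ 0` modulo `q`. -/
theorem exists_small_multiple {q : ℕ} [hq : Fact q.Prime] (h20 : q % 20 = 3) :
    ∃ (x y : ℤ) (k : ℕ), 1 ≤ k ∧ k ≤ 5 ∧ x ^ 2 + 5 * y ^ 2 = k * q := by
  classical
  haveI : NeZero q := ⟨hq.out.ne_zero⟩
  obtain ⟨t, ht⟩ : ∃ t : ZMod q, t ^ 2 = -5 := by
    haveI : Fact (Nat.Prime 5) := ⟨by norm_num⟩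
    have hne : ((-5 : ℤ) : ZMod q) ≠ 0 := by
      rw [Ne, ZMod.intCast_zmod_eq_zero_iff_dvd, dvd_neg]
      intro h
      have := (Nat.prime_dvd_prime_iff_eq hq.out (by norm_num)).mp
        (Int.natCast_dvd_natCast.mp (show (q : ℤ) ∣ ((5 : ℕ) : ℤ) from h))
      omega
    have hls : legendreSym q (-5) = 1 := by
      rw [show (-5 : ℤ) = -1 * 5 from rfl, legendreSym.mul, legendreSym.at_neg_one (by omega),
        ZMod.χ₄_nat_three_mod_four (by omega)]
      have h5 : legendreSym q ((5 : ℕ) : ℤ) = legendreSym 5 q :=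
        legendreSym.quadratic_reciprocity_one_mod_four (by norm_num) (by omega)
      rw [show ((5 : ℕ) : ℤ) = 5 from rfl] at h5
      rw [h5, legendreSym.mod 5 q]
      have : (q : ℤ) % ((5 : ℕ) : ℤ) = 3 := by omega
      rw [this, show legendreSym 5 3 = -1 from (legendreSym.eq_neg_one_iff 5).mpr not_isSquare_three]
      norm_num
    obtain ⟨c, hc⟩ := (legendreSym.eq_one_iff q hne).mp hls
    exact ⟨c, by rw [pow_two, ← hc]; push_cast; rfl⟩
  set m := Nat.sqrt q with hm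
  have hcard : Fintype.card (ZMod q) < Fintype.card (Fin (m + 1) × Fin (m + 1)) := by
    rw [ZMod.card, Fintype.card_prod, Fintype.card_fin]
    exact Nat.lt_succ_sqrt q
  obtain ⟨⟨x1, y1⟩, ⟨x2, y2⟩, hne, he⟩ := Fintype.exists_ne_map_eq_of_card_lt
    (fun p : Fin (m + 1) × Fin (m + 1) => ((p.1 : ℕ) : ZMod q) - t * ((p.2 : ℕ) : ZMod q)) hcard
  set x : ℤ := (x1 : ℕ) - (x2 : ℕ) with hxd
  set y : ℤ := (y1 : ℕ) - (y2 : ℕ) with hyd
  have hxy : (x : ZMod q) = t * (y : ZMod q) := by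
    rw [hxd, hyd]; push_cast
    linear_combination he
  obtain ⟨k, hk⟩ : (q : ℤ) ∣ x ^ 2 + 5 * y ^ 2 := by
    rw [← ZMod.intCast_zmod_eq_zero_iff_dvd]
    push_cast
    rw [hxy]
    linear_combination (y : ZMod q) ^ 2 * ht
  have hm2 : (m : ℤ) * m < q := by
    have h1 : m * m ≤ q := Nat.sqrt_le q
    have h2 : m * m ≠ q := fun h => by
      have hd : m ∣ q := Dvd.intro m h
      rcases (Nat.dvd_prime hq.out).mp hd with h' | h' <;> rw [h'] at h
      · exact hq.out.one_lt.ne (by simpa using h)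
      · have := hq.out.two_le; nlinarith
    exact_mod_cast lt_of_le_of_ne h1 h2
  have hbx : x ^ 2 ≤ (m : ℤ) * m := by
    have := x1.2; have := x2.2
    have h1 : -(m : ℤ) ≤ x := by omega
    have h2 : x ≤ m := by omega
    nlinarith
  have hby : y ^ 2 ≤ (m : ℤ) * m := by
    have := y1.2; have := y2.2
    have h1 : -(m : ℤ) ≤ y := by omega
    have h2 : y ≤ m := by omega
    nlinarith
  have hpos : 0 < x ^ 2 + 5 * y ^ 2 := by
    by_contra h
    have hx0 : x = 0 := by nlinarith [sq_nonneg x, sq_nonneg y]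
    have hy0 : y = 0 := by nlinarith [sq_nonneg x, sq_nonneg y]
    exact hne (Prod.ext (Fin.ext (by simp only; omega)) (Fin.ext (by simp only; omega)))
  have hq0 : (0 : ℤ) < q := by exact_mod_cast hq.out.pos
  have hk1 : 1 ≤ k := by nlinarith
  have hk5 : k ≤ 5 := by nlinarith
  exact ⟨x, y, k.toNat, by omega, by omega, by rw [hk, Int.toNat_of_nonneg (by omega)]; ring⟩

variable [CharZero B]

/-- A prime `q ≡ 3 (mod 20)` is a sum of two squares in a field containing `√5`. -/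
theorem isSum2_prime {r : B} (hr : r ^ 2 = 5) {q : ℕ} [Fact q.Prime] (h20 : q % 20 = 3) :
    IsSum2 (q : B) := by
  obtain ⟨x, y, k, hk1, hk5, he⟩ := exists_small_multiple h20
  have hS : IsSum2 ((k : B) * q) := ⟨(x : B), r * y, by
    have h := congrArg (fun z : ℤ => (z : B)) he
    simp only [Int.cast_add, Int.cast_mul, Int.cast_pow, Int.cast_natCast, Int.cast_ofNat] at h
    rw [← h, mul_pow, hr]⟩
  have hk : IsSum2 (k : B) := by
    interval_cases k
    · exact ⟨1, 0, by norm_num⟩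
    · exact ⟨1, 1, by norm_num⟩
    · refine ⟨(1 + r) / 2, (1 - r) / 2, ?_⟩
      field_simp
      linear_combination (-2 : B) * hr
    · exact ⟨2, 0, by norm_num⟩
    · exact ⟨r, 0, by rw [hr]; norm_num⟩
  have := hS.div hk
  rwa [mul_div_cancel_left₀ _ (by exact_mod_cast (by omega : k ≠ 0))] at this

/-- Minus one is `x² + (a² + b²) y²` once `√5` and a primitive `p`-th root of unity are present. -/
theorem exists_neg_one_eq {r : B} (hr : r ^ 2 = 5) {p : ℕ} [hp : Fact p.Prime] (hp7 : 7 ≤ p) {ζ : B}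
    (hζ : IsPrimitiveRoot ζ p) : ∃ a b x y : B, x ^ 2 + (a ^ 2 + b ^ 2) * y ^ 2 = -1 := by
  classical
  have hp2 : ringChar (ZMod p) ≠ 2 := by rw [ZMod.ringChar_zmod_n]; omega
  obtain ⟨a, ha⟩ := quadraticChar_exists_neg_one hp2
  have ha0 : a ≠ 0 := fun h0 => by rw [h0, quadraticChar_zero] at ha; norm_num at ha
  have hcop : Nat.Coprime 20 p := by
    rw [Nat.coprime_comm, hp.out.coprime_iff_not_dvd]
    intro h
    rcases hp.out.dvd_mul.mp (show p ∣ 4 * 5 from h) with h | h <;>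
      have := Nat.le_of_dvd (by norm_num) h <;> omega
  set c := Nat.chineseRemainder hcop 3 a.val with hc
  have hcc : Nat.Coprime (c : ℕ) (20 * p) := by
    refine Nat.Coprime.mul_right ?_ ?_
    · rw [Nat.coprime_iff_gcd_eq_one, c.2.1.gcd_eq]; rfl
    · rw [Nat.coprime_iff_gcd_eq_one, c.2.2.gcd_eq, ← Nat.coprime_iff_gcd_eq_one, Nat.coprime_comm,
        hp.out.coprime_iff_not_dvd]
      intro h
      have h' := Nat.le_of_dvd (Nat.pos_of_ne_zero fun e => ha0 ((ZMod.val_eq_zero a).mp e)) h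
      have := ZMod.val_lt a
      omega
  obtain ⟨q, -, hq, hqc⟩ := Nat.forall_exists_prime_gt_and_modEq 0
    (q := 20 * p) (a := (c : ℕ)) (by have := hp.out.pos; omega) hcc
  haveI := Fact.mk hq
  have h20 : q % 20 = 3 := (hqc.of_mul_right p).trans c.2.1
  have hqa : (q : ZMod p) = a := by
    rw [(ZMod.natCast_eq_natCast_iff' q a.val p).mpr ((hqc.of_mul_left 20).trans c.2.2), ZMod.natCast_zmod_val]
  obtain ⟨U, V, hUV⟩ := gauss_form (q := q) (by omega)
  obtain ⟨s, t, hst⟩ := isSum2_prime hr h20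
  -- the norms from `B(√-q)`
  let N : B → Prop := fun z => ∃ x y : B, z = x ^ 2 + (q : B) * y ^ 2
  have hmul : ∀ z w, N z → N w → N (z * w) := by
    rintro _ _ ⟨a, b, rfl⟩ ⟨c, d, rfl⟩
    exact ⟨a * c - (q : B) * (b * d), a * d + b * c, by ring⟩
  have hcyc : ∀ x : B, N ((cyclotomic q B).eval x) := by
    intro x
    refine ⟨(U.map (algebraMap ℚ B)).eval x, (V.map (algebraMap ℚ B)).eval x, ?_⟩
    rw [← map_cyclotomic q (algebraMap ℚ B), ← hUV]
    simp
  have hne : ∀ n : ℕ, ¬ p ∣ q ^ n := fun n h => by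
    have h1 := hp.out.dvd_of_dvd_pow h
    rw [Nat.prime_dvd_prime_iff_eq hp.out hq] at h1
    rw [← h1, ZMod.natCast_self] at hqa
    exact ha0 hqa.symm
  have htel : ∀ n : ℕ, N ((1 - ζ ^ q ^ n) / (1 - ζ)) := by
    intro n
    have h1 : (1 : B) - ζ ≠ 0 := sub_ne_zero.mpr (hζ.ne_one (by omega)).symm
    induction n with
    | zero => exact ⟨1, 0, by rw [pow_zero, pow_one, div_self h1]; ring⟩
    | succ n ih =>
      have h2 := hmul _ _ ih (hcyc (ζ ^ q ^ n))
      have h3 : (cyclotomic q B).eval (ζ ^ q ^ n) * (ζ ^ q ^ n - 1) = ζ ^ q ^ (n + 1) - 1 := by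
        have := congrArg (Polynomial.eval (ζ ^ q ^ n)) (cyclotomic_prime_mul_X_sub_one B q)
        simp only [eval_mul, eval_sub, eval_X, eval_one, eval_pow] at this
        rw [this, ← pow_mul, ← pow_succ]
      convert h2 using 1
      field_simp
      linear_combination h3
  obtain ⟨h, hh⟩ : ∃ h, p = 2 * h + 1 := hp.out.odd_of_ne_two (by omega)
  have hzz : ζ ^ q ^ h = (ζ ^ h) ^ 2 := by
    have h1 : ((q ^ h : ℕ) : ZMod p) = ((2 * h : ℕ) : ZMod p) := by
      have h2 : ((quadraticChar (ZMod p) a : ℤ) : ZMod p) = a ^ (p / 2) := by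
        rw [quadraticChar_eq_pow_of_char_ne_two' hp2, ZMod.card]
      rw [ha, show p / 2 = h by omega] at h2
      have h3 : ((2 * h : ℕ) : ZMod p) + 1 = 0 := by
        rw [← Nat.cast_one, ← Nat.cast_add, ← hh, ZMod.natCast_self]
      rw [Nat.cast_pow, hqa, ← h2]
      push_cast at h3 ⊢
      linear_combination -h3
    rw [← pow_mul, mul_comm h 2]
    exact pow_eq_pow_of_modEq ((ZMod.natCast_eq_natCast_iff _ _ _).mp h1) hζ.pow_eq_one
  obtain ⟨x, y, hxy⟩ := htel h
  have hzh : ζ ^ h ≠ 0 := pow_ne_zero _ (hζ.ne_zero (by omega))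
  have h1 : (1 : B) - ζ ≠ 0 := sub_ne_zero.mpr (hζ.ne_one (by omega)).symm
  have hinv : (ζ ^ h) ^ 2 * ζ = 1 := by
    rw [← pow_mul, ← pow_succ, mul_comm h 2, ← hh, hζ.pow_eq_one]
  refine ⟨s, t, x / ζ ^ h, y / ζ ^ h, ?_⟩
  rw [← hst]
  rw [hzz] at hxy
  field_simp at hxy ⊢
  apply mul_right_cancel₀ h1
  linear_combination -hinv - hxy

end CfsgLib.DivRing
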